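import Cfsg.Agent.H249.DP.Tits
import Cfsg.Agent.H845.CopTits
import Cfsg.Agent.FastGrp
import Cfsg.Agent.Prune
set_option linter.all false
prune_inst 0x7f00000000000000000000000000000000000000000000000000000000000000000000000000000000000000000000000000000000000000000000000000000000000000000000000000000000000000003fffffffffffffffffffffffffffbeffbdffffffff
open scoped Cfsg.Agent.FastGrp

/-!
# Products of `p`-elements in the Tits group (helper249, S2454)

`pw_tits` : every element of the Tits group is a product of 70 `p`-elements, `p` a prime divisor of the order.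
-/

set_option autoImplicit false

namespace Cfsg.Agent.H249.DP.Tits

open Subgroup Cfsg.Agent.H514.DP Cfsg.Agent.H87.TitsAbs

theorem orderOf_sq_thirteen {G : Type*} [Group G] {x : G} (hx : orderOf x = 13) (n : ℕ) (hn : Nat.Coprime 13 n) :
    orderOf (x ^ n) = 13 := by
  rw [Nat.Coprime.orderOf_pow (by rw [hx]; exact hn), hx]

theorem commutator_tits : commutator Cfsg.Lie.TitsGroup = ⊤ := by
  rcases Cfsg.Agent.H95.LSx.Tits.simple_tits.eq_bot_or_eq_top_of_normal (commutator Cfsg.Lie.TitsGroup) inferInstance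
    with h1 | h1
  · exfalso
    obtain ⟨D⟩ := Cfsg.Agent.H87.TitsData.dat_tits
    have h3 : D.t * D.x * D.t⁻¹ * D.x⁻¹ ∈ commutator Cfsg.Lie.TitsGroup :=
      Subgroup.commutator_mem_commutator (mem_top _) (mem_top _)
    rw [h1, mem_bot, D.txt] at h3
    have h4 : D.x ^ 2 = 1 := by
      rw [← h3]; group
    apply D.x1
    have h5 := D.x13
    calc D.x = D.x ^ 13 * ((D.x ^ 2) ^ 6)⁻¹ := by group
      _ = 1 := by rw [h5, h4]; group
  · exact h1

theorem pw_titsGroup {p : ℕ} (hp : p.Prime) (hd : p ∣ Nat.card Cfsg.Lie.TitsGroup) : PW p 70 Cfsg.Lie.TitsGroup := by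
  have h : Cfsg.Lie.IsoTits Cfsg.Lie.TitsGroup := ⟨MulEquiv.refl _⟩
  have hc : Nat.card Cfsg.Lie.TitsGroup = 17971200 := Cfsg.Agent.NotCT.Orders.tits h
  have hfin : Finite Cfsg.Lie.TitsGroup := by
    apply Nat.finite_of_card_ne_zero
    rw [hc]
    norm_num
  have key13 : ∀ {p m : ℕ} (y : Cfsg.Lie.TitsGroup), orderOf y = 13 → PE p m y → PW p (m * 4) Cfsg.Lie.TitsGroup := by
    intro p m y hy hpe
    refine PW.of_pe commutator_tits hpe minDeg (by norm_num) ?_
    have h1 := card_cent hy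
    have h2 : Nat.card (centralizer ({y} : Set Cfsg.Lie.TitsGroup)) - 1 ≤ 12 := by omega
    exact lt_of_le_of_lt (Nat.pow_le_pow_left h2 4) (by norm_num)
  have hp4 : p = 2 ∨ p = 3 ∨ p = 5 ∨ p = 13 := by
    rw [hc, show (17971200 : ℕ) = 2 ^ 11 * 3 ^ 3 * 5 ^ 2 * 13 by norm_num] at hd
    rcases (Nat.Prime.dvd_mul hp).1 hd with hd | hd
    · rcases (Nat.Prime.dvd_mul hp).1 hd with hd | hd
      · rcases (Nat.Prime.dvd_mul hp).1 hd with hd | hd
        · exact Or.inl ((Nat.prime_dvd_prime_iff_eq hp (by norm_num)).1 (hp.dvd_of_dvd_pow hd))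
        · exact Or.inr (Or.inl ((Nat.prime_dvd_prime_iff_eq hp (by norm_num)).1 (hp.dvd_of_dvd_pow hd)))
      · exact Or.inr (Or.inr (Or.inl ((Nat.prime_dvd_prime_iff_eq hp (by norm_num)).1 (hp.dvd_of_dvd_pow hd))))
    · exact Or.inr (Or.inr (Or.inr ((Nat.prime_dvd_prime_iff_eq hp (by norm_num)).1 hd)))
  obtain ⟨D⟩ := Cfsg.Agent.H87.TitsData.dat_tits
  have : Fact (Nat.Prime 13) := ⟨by norm_num⟩
  have hx : orderOf D.x = 13 := orderOf_eq_prime D.x13 D.x1
  rcases hp4 with rfl | rfl | rfl | rfl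
  · obtain ⟨x, t, h1, ⟨k, h2⟩, h3⟩ := Cfsg.Agent.H661.Spor.hasReal_tits h
    have h4 : PE 2 2 (x⁻¹ * x⁻¹) := pe_of_norm (IsPE.of_orderOf h2) h3
    have h5 : orderOf (x⁻¹ * x⁻¹) = 13 := by
      rw [← sq]
      exact orderOf_sq_thirteen (by rw [orderOf_inv, h1]) 2 (by norm_num)
    exact (key13 _ h5 h4).mono (by norm_num)
  · have h4 : PE 3 2 (D.x ^ 3 * D.x⁻¹) := pe_of_norm (w := D.t) ⟨1, by rw [pow_one, D.t3]⟩ D.txt
    have h5 : orderOf (D.x ^ 3 * D.x⁻¹) = 13 := by
      have e : D.x ^ 3 * D.x⁻¹ = D.x ^ 2 := by group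
      rw [e]
      exact orderOf_sq_thirteen hx 2 (by norm_num)
    exact (key13 _ h5 h4).mono (by norm_num)
  · have : Fact (Nat.Prime 5) := ⟨by norm_num⟩
    obtain ⟨y, hy⟩ := exists_prime_orderOf_dvd_card' (G := Cfsg.Lie.TitsGroup) 5 (by rw [hc]; norm_num)
    have h1 := (Cfsg.Agent.CpAutTits.Row.out h).cent y hy
    have h2 : PW 5 (1 * 7) Cfsg.Lie.TitsGroup := by
      refine PW.of_pe (y := y) commutator_tits (IsPE.of_prime hy).pe minDeg (by norm_num) ?_
      rw [h1]
      norm_num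
    exact h2.mono (by norm_num)
  · exact (key13 _ hx (IsPE.of_prime hx).pe).mono (by norm_num)

theorem aux {X : Type*} [Group X] (K : Subgroup X) {G : Type*} [Group G] (e : Nonempty (G ≃* commutator K)) {p m : ℕ}
    (hd : p ∣ Nat.card G) (h : p ∣ Nat.card (commutator K) → PW p m (commutator K)) : PW p m G := by
  obtain ⟨e⟩ := e
  rw [Nat.card_congr e.toEquiv] at hd
  exact (h hd).congr e.symm

/-- **the Tits group** -/
theorem pw_tits {S : Type*} [Group S] (h : Cfsg.Lie.IsoTits S) {p : ℕ} (hp : p.Prime)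
    (hd : p ∣ Nat.card S) : PW p 70 S :=
  aux _ h hd fun h1 => pw_titsGroup hp h1

end Cfsg.Agent.H249.DP.Tits
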